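import Cfsg.Agent.Lib.TwistTwoGen49.Helpers
import Cfsg.Agent.Lib.LieTwisted.Twist.D4Thms

/-!
³D₄(q) is two-generated.
-/

set_option autoImplicit false
set_option maxRecDepth 100000
set_option linter.unusedSectionVars false

namespace Cfsg.Agent.Lib.TwistTwoGen49.D4

open Cfsg.Lie ChevStructure Cfsg.Agent.Lib.LieTwisted Cfsg.Agent.Lib.LieTwisted.Twist
open Cfsg.Agent.Lib.LieTwisted.Twist.D4

/-- Words reaching the fundamental orbits from the seeds. -/
def wF : Bool → List Bool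
  | false => [false]
  | true => [true]

/-- Words reaching the moved fundamental orbit from its seed. -/
def wM : Bool → List Bool
  | false => []
  | true => [false]

/-- Reflection words of the two letters. -/
def expW (w : List Bool) : List ℕ := w.flatMap fun b => if b then [1, 0, 2, 3] else [0, 2, 3]

theorem fixed_spec : ∀ s, ChevTwoGen49.actW chevD4 (expW (wF s)) 22 = (sd s (pD (osD 0))).val := by decide +kernel

theorem moved_spec : ∀ s, ChevTwoGen49.actW chevD4 (expW (wM s)) 18 = (sd s (pD (osD 1))).val := by decide +kernel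

theorem orbit_cases : ∀ m : Fin 2, m = 0 ∨ m = 1 := by decide

/-- The root centralised by the torus element. -/
def r0 : Rt chevD4 := ⟨23, by decide⟩

/-- The preimage of the moved seed. -/
def q0 : Rt chevD4 := ⟨17, by decide⟩

/-- The fixed seed. -/
def s0 : Rt chevD4 := ⟨22, by decide⟩

theorem root_facts :
    ((chevD4.cartan 0 23 = 0 ∧ chevD4.cartan 2 23 = 0 ∧ chevD4.cartan 3 23 = 0) ∧
      (chevD4.cartan 0 18 = 2 ∧ chevD4.cartan 2 18 = 0 ∧ chevD4.cartan 3 18 = 0) ∧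
      (chevD4.cartan 0 17 = -1 ∧ chevD4.cartan 2 17 = 1 ∧ chevD4.cartan 3 17 = 1) ∧
      (chevD4.cartan 0 22 = 1 ∧ chevD4.cartan 2 22 = 1 ∧ chevD4.cartan 3 22 = 1)) ∧
    (ChevTwoGen49.actW chevD4 [1, 0, 2, 3] 17 = 18 ∧ ChevTwoGen49.actW chevD4 [1, 0, 2, 3] 23 = 22 ∧
      (pD (osD 1)).val = 18 ∧
      ((ChevTwoGen49.actW chevD4 [1, 0, 2, 3])^[3]) 18 = (pD (osD 1)).rev.val) ∧
    (GraphData.symD4.ε r0 = 1 ∧ Frob.rootPerm g r0 = r0 ∧ Frob.rootPerm g s0 = s0) := by decide +kernel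

theorem node_next : Frob.nodePerm g ⟨3, by decide⟩ = (⟨0, by decide⟩ : Fin chevD4.rank) := by decide +kernel

variable {K : Type*} [Field K] [Fintype K] {q : ℕ} {φ : K ≃+* K} (F : Frob.Facts K q 3 φ) (hq1 : 1 < q)
  (hK : Fintype.card K = q ^ 3)

/-- The torus parameters. -/
def dd (b : Kˣ) (q : ℕ) : Fin chevD4.rank → Kˣ := ![b, 1, b ^ q, b ^ (q * q)]

theorem chA_dd (b : Kˣ) (r : Rt chevD4) :
    C.chA (dd b q) r =
      b ^ (chevD4.cartan 0 r.val + (q : ℤ) * chevD4.cartan 2 r.val + (q : ℤ) * q * chevD4.cartan 3 r.val) := by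
  show ∏ j : Fin 4, dd b q j ^ A chevD4 j r = _
  rw [Fin.prod_univ_four]
  show b ^ chevD4.cartan 0 r.val * (1 : Kˣ) ^ chevD4.cartan 1 r.val * (b ^ q) ^ chevD4.cartan 2 r.val *
    (b ^ (q * q)) ^ chevD4.cartan 3 r.val = _
  rw [one_zpow, mul_one, ← zpow_natCast, ← zpow_natCast b (q * q), ← zpow_mul, ← zpow_mul, ← zpow_add,
    ← zpow_add]
  push_cast
  rfl

include F hq1 hK

theorem two_generated :
    ∃ a c : ↥(orth F hq1 hK).G1, Subgroup.closure ({a, c} : Set ↥(orth F hq1 hK).G1) = ⊤ := by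
  set O := orth F hq1 hK with hO
  obtain ⟨b, hb⟩ := IsCyclic.exists_generator (α := Kˣ)
  obtain ⟨⟨⟨a0, a2, a3⟩, ⟨b0, b2, b3⟩, ⟨c0, c2, c3⟩, ⟨e0, e2, e3⟩⟩, ⟨hq0, hk0, hp1, hneg⟩, ⟨hε, hπr, hπs⟩⟩ :=
    root_facts
  have hφu : ∀ u : Kˣ, Units.map (φ : K →* K) u = u ^ q := fun u => Units.ext (by simp [F.apply])
  have hbK : b ^ (q * q * q) = b := Units.ext (by
    rw [Units.val_pow_eq_pow_val, show q * q * q = Fintype.card K by rw [hK]; ring, FiniteField.pow_card])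
  have hd : O.τc (dd b q) = dd b q := by
    funext i
    obtain ⟨j, rfl⟩ := (Frob.nodePerm g).surjective i
    show τT φ (dd b q) (Frob.nodePerm g j) = _
    rw [τT_apply, hφu]
    obtain ⟨h02, h23, h11, -⟩ := node_vals
    have hj : j = ⟨0, by decide⟩ ∨ j = ⟨1, by decide⟩ ∨ j = ⟨2, by decide⟩ ∨ j = ⟨3, by decide⟩ := by
      revert j; decide
    rcases hj with rfl | rfl | rfl | rfl
    · rw [h02]; rfl
    · rw [h11]; exact one_pow q
    · rw [h23]; show (b ^ q) ^ q = b ^ (q * q); rw [← pow_mul]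
    · rw [node_next]; show (b ^ (q * q)) ^ q = b; rw [← pow_mul, hbK]
  have hm1 : O.ρ (O.os (1 : Fin 2)) ≠ O.os (1 : Fin 2) := node_vals.2.2.2
  have hm0 : O.ρ (O.os (0 : Fin 2)) = O.os (0 : Fin 2) := node_vals.2.2.1
  have hJ : ∀ m : Fin 2, (O.Jl m).map Fin.val = Js.getD m.val [] := fun m => Js_spec F hq1 hK m
  have hL : ((([0, 1] : List (Fin 2)) : List (Fin O.nn)).flatMap O.Jl).map Fin.val = [1, 0, 2, 3] := by
    show (O.Jl (0 : Fin 2) ++ (O.Jl (1 : Fin 2) ++ [])).map Fin.val = _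
    rw [List.append_nil, List.map_append, hJ, hJ]
    rfl
  have hJ1 : (O.Jl (1 : Fin 2)).map Fin.val = [0, 2, 3] := hJ 1
  set σ := C.pprod ((([0, 1] : List (Fin 2)) : List (Fin O.nn)).flatMap O.Jl) with hσ
  have hp : C.p (O.os (1 : Fin 2)) = pD (osD 1) := p_eq _
  have hs : (σ : _ → _)^[1] r0 = s0 := Fin.ext (by
    rw [iterate_val, hL]; exact hk0)
  have hwv : ∀ (w : List Bool) (r : Rt chevD4),
      (C.pprod (word O ([0, 1] : List (Fin 2)) (1 : Fin 2) w) r).val = ChevTwoGen49.actW chevD4 (expW w) r.val :=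
    fun w r => by rw [pprod_val', word_val O hL hJ1]; rfl
  refine TwistTwoGen49.two_generated O ([0, 1] : List (Fin 2)) (1 : Fin 2) hm1 r0 1 (dd b q) b hd hb ?_ ?_ ?_ ?_
    ?_ ?_ ?_ ?_ ?_
  · rw [O.Θ_X]
    show C.X K (Frob.rootPerm g r0) ((GraphData.symD4.ε r0 : K) * φ 1) = _
    rw [hπr, hε, Int.cast_one, one_mul, map_one]
  · rw [chA_dd, show r0.val = 23 from rfl, a0, a2, a3]; simp
  · rw [chA_dd, hp, hp1, b0, b2, b3]; simp
  · intro r hr
    have : r = q0 := σ.injective (hr.trans (by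
      rw [hp]; exact Fin.ext (by rw [hσ, pprod_val', hL, hp1]; exact hq0.symm)))
    subst this
    rw [chA_dd, show q0.val = 17 from rfl, c0, c2, c3]
    have hlt : q * q + q - 1 < Fintype.card K - 1 := by
      rw [hK]
      have : q * q * 2 ≤ q * q * q := Nat.mul_le_mul_left _ hq1
      have : q * 2 ≤ q * q := Nat.mul_le_mul_left _ hq1
      have : q ^ 3 = q * q * q := by ring
      omega
    have hne := pow_ne_one hb (show 0 < q * q + q - 1 by
      have : 0 < q * q := Nat.mul_pos (by omega) (by omega)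
      omega) hlt
    rw [show (-1 + (q : ℤ) * 1 + (q : ℤ) * q * 1) = ((q * q + q - 1 : ℕ) : ℤ) by
      rw [Nat.cast_sub (show 1 ≤ q * q + q by omega)]; push_cast; ring, zpow_natCast]
    exact hne
  · rw [hs]; exact hπs
  · intro z hz
    rw [hs, chA_dd, show s0.val = 22 from rfl, e0, e2, e3]
    change φ (z : K) = z at hz
    rw [F.apply] at hz
    obtain ⟨l, hl⟩ := fixed_pow hb (N := q * q + q + 1) hq1 (by
      rw [hK]
      obtain ⟨p, rfl⟩ : ∃ p, q = p + 1 := ⟨q - 1, by omega⟩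
      have : (p + 1) ^ 3 = ((p + 1) * (p + 1) + (p + 1) + 1) * p + 1 := by ring
      simp only [Nat.add_sub_cancel]
      omega) hz
    refine ⟨(l : ℤ) * 2, ?_⟩
    rw [show (1 + (q : ℤ) * 1 + (q : ℤ) * q * 1) = ((q * q + q + 1 : ℕ) : ℤ) by push_cast; ring,
      zpow_natCast, zpow_mul, zpow_natCast, hl]
    exact zpow_natCast z 2
  · exact ⟨3, 0, by rw [hp]; exact Fin.ext (by rw [iterate_val, hL, hp1]; exact hneg)⟩
  · intro m hm sg
    obtain rfl : m = (1 : Fin 2) := (orbit_cases m).resolve_left fun h => hm (h ▸ hm0)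
    exact ⟨wM sg, 0, Fin.ext (by rw [hwv, hp, hp1]; exact moved_spec sg)⟩
  · intro m hm sg
    obtain rfl : m = (0 : Fin 2) := (orbit_cases m).resolve_right fun h => hm1 (h ▸ hm)
    refine ⟨wF sg, Fin.ext ?_⟩
    rw [hwv, hs]
    show _ = (sd sg (C.p (osD 0))).val
    rw [p_eq]
    exact fixed_spec sg

end Cfsg.Agent.Lib.TwistTwoGen49.D4
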