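import Cfsg.Agent.Lib.TwistTwoGen49.Helpers
import Cfsg.Agent.Lib.LieTwisted.Twist.E6Thms

/-!
²E₆(q) is two-generated.
-/

set_option autoImplicit false
set_option maxRecDepth 100000
set_option linter.unusedSectionVars false

namespace Cfsg.Agent.Lib.TwistTwoGen49.E6

open Cfsg.Lie ChevStructure Cfsg.Agent.Lib.LieTwisted Cfsg.Agent.Lib.LieTwisted.Twist
open Cfsg.Agent.Lib.LieTwisted.Twist.E6

/-- Words reaching the fixed fundamental orbits from the fixed seed. -/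
def wF : Fin 4 → Bool → List Bool
  | 0, false => [true, true, true, false]
  | 0, true => [true, true, true, true, false, true, true]
  | 1, false => [true, true, true, true, false]
  | 1, true => [false, true, false]
  | _, _ => []

/-- Words reaching the moved fundamental orbits from the moved seed. -/
def wM : Fin 4 → Bool → List Bool
  | 2, false => []
  | 2, true => [false]
  | 3, false => [true]
  | 3, true => [true, false]
  | _, _ => []

/-- Reflection words of the two letters. -/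
def expW (w : List Bool) : List ℕ := w.flatMap fun b => if b then [1, 3, 2, 4, 0, 5] else [2, 4]

theorem fixed_spec : ∀ m : Fin 4, m.val < 2 → ∀ s,
    ChevTwoGen49.actW chevE6 (expW (wF m s)) 2 = (sd s (pD (osD m))).val := by decide +kernel

theorem moved_spec : ∀ m : Fin 4, ¬ m.val < 2 → ∀ s,
    ChevTwoGen49.actW chevE6 (expW (wM m s)) 42 = (sd s (pD (osD m))).val := by decide +kernel

/-- The root centralised by the torus element. -/
def r0 : Rt chevE6 := ⟨0, by decide⟩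

/-- The preimage of the moved seed. -/
def q0 : Rt chevE6 := ⟨41, by decide⟩

/-- The fixed seed. -/
def s0 : Rt chevE6 := ⟨2, by decide⟩

theorem root_facts :
    ((chevE6.cartan 2 0 = 0 ∧ chevE6.cartan 4 0 = 0) ∧ (chevE6.cartan 2 42 = 2 ∧ chevE6.cartan 4 42 = 0) ∧
      (chevE6.cartan 2 41 = -1 ∧ chevE6.cartan 4 41 = 0) ∧ (chevE6.cartan 2 2 = -1 ∧ chevE6.cartan 4 2 = -1)) ∧
    (ChevTwoGen49.actW chevE6 [1, 3, 2, 4, 0, 5] 41 = 42 ∧
      ((ChevTwoGen49.actW chevE6 [1, 3, 2, 4, 0, 5])^[2]) 0 = 2 ∧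
      (pD (osD 2)).val = 42 ∧
      ((ChevTwoGen49.actW chevE6 [1, 3, 2, 4, 0, 5])^[6]) 42 =
        ((Frob.rootPerm g : _ → _)^[1] (pD (osD 2)).rev).val) ∧
    (GraphData.symE6.ε r0 = 1 ∧ Frob.rootPerm g r0 = r0 ∧ Frob.rootPerm g s0 = s0) := by decide +kernel

theorem node_facts : (Frob.nodePerm g ⟨0, by decide⟩ = (⟨5, by decide⟩ : Fin chevE6.rank)) ∧
    (Frob.nodePerm g ⟨1, by decide⟩ = (⟨1, by decide⟩ : Fin chevE6.rank)) ∧
    (Frob.nodePerm g ⟨2, by decide⟩ = (⟨4, by decide⟩ : Fin chevE6.rank)) ∧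
    (Frob.nodePerm g ⟨3, by decide⟩ = (⟨3, by decide⟩ : Fin chevE6.rank)) ∧
    (Frob.nodePerm g ⟨4, by decide⟩ = (⟨2, by decide⟩ : Fin chevE6.rank)) ∧
    (Frob.nodePerm g ⟨5, by decide⟩ = (⟨0, by decide⟩ : Fin chevE6.rank)) := by decide +kernel

variable {K : Type*} [Field K] [Fintype K] {q : ℕ} {φ : K ≃+* K} (F : Frob.Facts K q 2 φ) (hq1 : 1 < q)
  (hK : Fintype.card K = q ^ 2)

/-- The torus parameters. -/
def dd (b : Kˣ) (q : ℕ) : Fin chevE6.rank → Kˣ := ![1, 1, b, 1, b ^ q, 1]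

theorem chA_dd (b : Kˣ) (r : Rt chevE6) :
    C.chA (dd b q) r = b ^ (chevE6.cartan 2 r.val + (q : ℤ) * chevE6.cartan 4 r.val) := by
  show ∏ j : Fin 6, dd b q j ^ A chevE6 j r = _
  rw [Fin.prod_univ_six]
  show (1 : Kˣ) ^ chevE6.cartan 0 r.val * (1 : Kˣ) ^ chevE6.cartan 1 r.val * b ^ chevE6.cartan 2 r.val *
    (1 : Kˣ) ^ chevE6.cartan 3 r.val * (b ^ q) ^ chevE6.cartan 4 r.val * (1 : Kˣ) ^ chevE6.cartan 5 r.val = _
  simp only [one_zpow, one_mul, mul_one]
  rw [← zpow_natCast, ← zpow_mul, ← zpow_add]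

include F hq1 hK

theorem two_generated :
    ∃ a c : ↥(orth F hq1 hK).G1, Subgroup.closure ({a, c} : Set ↥(orth F hq1 hK).G1) = ⊤ := by
  set O := orth F hq1 hK with hO
  obtain ⟨b, hb⟩ := IsCyclic.exists_generator (α := Kˣ)
  obtain ⟨⟨⟨a2, a4⟩, ⟨b2, b4⟩, ⟨c2, c4⟩, ⟨e2, e4⟩⟩, ⟨hq0, hk0, hp1, hneg⟩, ⟨hε, hπr, hπs⟩⟩ := root_facts
  have hφu : ∀ u : Kˣ, Units.map (φ : K →* K) u = u ^ q := fun u => Units.ext (by simp [F.apply])
  have hbK : b ^ (q * q) = b := Units.ext (by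
    rw [Units.val_pow_eq_pow_val, show q * q = Fintype.card K by rw [hK]; ring, FiniteField.pow_card])
  have hd : O.τc (dd b q) = dd b q := by
    funext i
    obtain ⟨j, rfl⟩ := (Frob.nodePerm g).surjective i
    show τT φ (dd b q) (Frob.nodePerm g j) = _
    rw [τT_apply, hφu]
    obtain ⟨h0, h1, h2, h3, h4, h5⟩ := node_facts
    rcases node_cases j with rfl | rfl | rfl | rfl | rfl | rfl
    · rw [h0]; exact one_pow q
    · rw [h1]; exact one_pow q
    · rw [h2]; rfl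
    · rw [h3]; exact one_pow q
    · rw [h4]; show (b ^ q) ^ q = b; rw [← pow_mul, hbK]
    · rw [h5]; exact one_pow q
  have hmov : ∀ m : Fin 4, O.ρ (O.os m) = O.os m ↔ m.val < 2 := node_vals
  have hm1 : O.ρ (O.os (2 : Fin 4)) ≠ O.os (2 : Fin 4) := fun h => absurd ((hmov 2).1 h) (by decide)
  have hJ : ∀ m : Fin 4, (O.Jl m).map Fin.val = Js.getD m.val [] := fun m => Js_spec F hq1 hK m
  have hL : ((([0, 1, 2, 3] : List (Fin 4)) : List (Fin O.nn)).flatMap O.Jl).map Fin.val = [1, 3, 2, 4, 0, 5] := by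
    show (O.Jl (0 : Fin 4) ++ (O.Jl (1 : Fin 4) ++ (O.Jl (2 : Fin 4) ++ (O.Jl (3 : Fin 4) ++ [])))).map Fin.val = _
    rw [List.append_nil, List.map_append, List.map_append, List.map_append, hJ, hJ, hJ, hJ]
    rfl
  have hJ1 : (O.Jl (2 : Fin 4)).map Fin.val = [2, 4] := hJ 2
  set σ := C.pprod ((([0, 1, 2, 3] : List (Fin 4)) : List (Fin O.nn)).flatMap O.Jl) with hσ
  have hp : C.p (O.os (2 : Fin 4)) = pD (osD 2) := p_eq _
  have hs : (σ : _ → _)^[2] r0 = s0 := Fin.ext (by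
    rw [iterate_val, hL]; exact hk0)
  have hwv : ∀ (w : List Bool) (r : Rt chevE6),
      (C.pprod (word O ([0, 1, 2, 3] : List (Fin 4)) (2 : Fin 4) w) r).val =
        ChevTwoGen49.actW chevE6 (expW w) r.val :=
    fun w r => by rw [pprod_val', word_val O hL hJ1]; rfl
  refine TwistTwoGen49.two_generated O ([0, 1, 2, 3] : List (Fin 4)) (2 : Fin 4) hm1 r0 2 (dd b q) b hd hb ?_ ?_ ?_
    ?_ ?_ ?_ ?_ ?_ ?_
  · rw [O.Θ_X]
    show C.X K (Frob.rootPerm g r0) ((GraphData.symE6.ε r0 : K) * φ 1) = _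
    rw [hπr, hε, Int.cast_one, one_mul, map_one]
  · rw [chA_dd, show r0.val = 0 from rfl, a2, a4]; simp
  · rw [chA_dd, hp, hp1, b2, b4]; simp
  · intro r hr
    have : r = q0 := σ.injective (hr.trans (by
      rw [hp]; exact Fin.ext (by rw [hσ, pprod_val', hL, hp1]; exact hq0.symm)))
    subst this
    rw [chA_dd, show q0.val = 41 from rfl, c2, c4, mul_zero, add_zero, zpow_neg_one, ne_eq, inv_eq_one]
    have := pow_ne_one hb (e := 1) one_pos (by
      rw [hK]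
      have : 2 * 2 ≤ q ^ 2 := by rw [pow_two]; exact Nat.mul_le_mul hq1 hq1
      omega)
    rwa [pow_one] at this
  · rw [hs]; exact hπs
  · intro z hz
    rw [hs, chA_dd, show s0.val = 2 from rfl, e2, e4]
    change φ (z : K) = z at hz
    rw [F.apply] at hz
    obtain ⟨l, hl⟩ := fixed_pow hb (N := q + 1) hq1 (by
      rw [hK]
      obtain ⟨p, rfl⟩ : ∃ p, q = p + 1 := ⟨q - 1, by omega⟩
      have : (p + 1) ^ 2 = (p + 1 + 1) * p + 1 := by ring
      simp only [Nat.add_sub_cancel]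
      omega) hz
    refine ⟨-((l : ℤ) * 2), ?_⟩
    rw [show (-1 + (q : ℤ) * -1) = -(((q + 1 : ℕ)) : ℤ) by push_cast; ring,
      ← zpow_mul, neg_mul_neg, zpow_mul, zpow_natCast, zpow_mul, zpow_natCast, hl]
    exact zpow_natCast z 2
  · exact ⟨6, 1, by rw [hp]; exact Fin.ext (by rw [iterate_val, hL, hp1]; exact hneg)⟩
  · intro m hm sg
    have hm2 : ¬ m.val < 2 := fun h => hm ((hmov m).2 h)
    refine ⟨wM m sg, 0, Fin.ext ?_⟩
    rw [hwv, hp, hp1]
    show _ = (sd sg (C.p (osD m))).val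
    rw [p_eq]
    exact moved_spec m hm2 sg
  · intro m hm sg
    refine ⟨wF m sg, Fin.ext ?_⟩
    rw [hwv, hs]
    show _ = (sd sg (C.p (osD m))).val
    rw [p_eq]
    exact fixed_spec m ((hmov m).1 hm) sg

end Cfsg.Agent.Lib.TwistTwoGen49.E6
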