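import Cfsg.Agent.Lib.LieTwisted.Twist.F4

/-!
²F₄(q), q > 2, is two-generated: by `h gP(1)` and `gB(1,0) n` with `n` a product of the two twisted
reflections.
-/

set_option autoImplicit false
set_option maxRecDepth 100000
set_option linter.unusedSectionVars false

namespace Cfsg.Agent.Lib.TwistTwoGen49.F4

open Cfsg.Lie ChevStructure Cfsg.Agent.Lib.LieTwisted.Twist Cfsg.Agent.Lib.LieTwisted.Twist.F4
open scoped MatrixGroups

/-- The word of the element `n`. -/
def Lc : List (Fin chevF4.rank) := Jw 1 ++ Jw 0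

/-- The coefficients of a root on the fundamental roots. -/
def coef (s : Rt chevF4) (m : Fin chevF4.rank) : ℤ := ∑ j, invA m j * A chevF4 j s

/-- The four coefficients of a root. -/
def co4 (s : Rt chevF4) : ℤ × ℤ × ℤ × ℤ :=
  (coef s (nd 0), coef s (nd 1), coef s (nd 2), coef s (nd 3))

theorem coef_pair : co4 (R 24) = (0, 0, 0, 1) ∧ co4 (R 33) = (1, 0, 0, 0) := by decide +kernel

theorem coef_base : co4 (R 25) = (0, 0, 1, 0) ∧ co4 (R 27) = (0, 1, 0, 0) ∧ co4 (R 28) = (0, 1, 1, 0) ∧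
    co4 (R 30) = (0, 2, 1, 0) := by decide +kernel

theorem coef_pre : co4 (R 21) = (0, 0, -1, -1) ∧ co4 (R 13) = (-1, -1, 0, 0) ∧
    co4 (R 11) = (-1, -1, -1, -1) ∧ co4 (R 5) = (-2, -2, -1, -1) := by decide +kernel

theorem coef_next : co4 (R 15) = (0, -2, -2, -1) ∧ co4 (R 10) = (-1, -2, -1, 0) := by decide +kernel

theorem moves :
    (Data.F4.fast.actW (Lc.map Fin.val) 21 = 25 ∧ Data.F4.fast.actW (Lc.map Fin.val) 13 = 27 ∧
      Data.F4.fast.actW (Lc.map Fin.val) 11 = 28 ∧ Data.F4.fast.actW (Lc.map Fin.val) 5 = 30) ∧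
    (Data.F4.fast.actW (Lc.map Fin.val) 24 = 15 ∧ Data.F4.fast.actW (Lc.map Fin.val) 33 = 10) ∧
    ((Data.F4.fast.actW (Lc.map Fin.val))^[7] 15 = 24 ∧ (Data.F4.fast.actW (Lc.map Fin.val))^[7] 10 = 33 ∧
      (Data.F4.fast.actW (Lc.map Fin.val))^[3] 15 = 23 ∧ (Data.F4.fast.actW (Lc.map Fin.val))^[3] 10 = 14) ∧
    ((Data.F4.fast.actW (Lc.map Fin.val))^[4] 27 = 20 ∧ (Data.F4.fast.actW (Lc.map Fin.val))^[4] 25 = 22 ∧
      (Data.F4.fast.actW (Lc.map Fin.val))^[4] 28 = 19 ∧ (Data.F4.fast.actW (Lc.map Fin.val))^[4] 30 = 17) := by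
  decide +kernel

variable {K : Type*} [Field K] {θ : K ≃+* K} {e : ℕ} (F : Th θ e)

include F

/-- Conjugation by a product of reflections is exact in characteristic two. -/
theorem wprod_conj : ∀ (L : List (Fin chevF4.rank)) (r : Rt chevF4) (t : K),
    C.wprod K L * C.X K r t * (C.wprod K L)⁻¹ = C.X K (C.pprod L r) t
  | [], r, t => by simp [Core.wprod, C.pprod_nil]
  | i :: L, r, t => by
    have hη : (C.η i (C.pprod L r) : K) = 1 := by
      rcases C.η_one i (C.pprod L r) with h | h <;> simp [h, F.neg]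
    rw [C.wprod_cons, show C.P K i * C.wprod K L * C.X K r t * (C.P K i * C.wprod K L)⁻¹ =
      C.P K i * (C.wprod K L * C.X K r t * (C.wprod K L)⁻¹) * (C.P K i)⁻¹ by group, wprod_conj L r t,
      C.P_X_conj, hη, one_mul, C.pprod_cons]
    rfl

/-- The values of the characters. -/
theorem chr_eval (x y : Kˣ) {s : Rt chevF4} {a b c d : ℤ} (hs : co4 s = (a, b, c, d)) :
    C.chr K (χOf θ x y) s = Units.map (θ : K →* K) x ^ a * Units.map (θ : K →* K) y ^ b * y ^ c * x ^ d := by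
  have h : C.chr K (χOf θ x y) s = ∏ m, χOf θ x y m ^ coef s m := by
    rw [chA_hχ]
    simp only [Core.chA, cOf, coef, ← Finset.prod_zpow, ← zpow_mul]
    rw [Finset.prod_comm]
    exact Finset.prod_congr rfl fun m _ => (C.zpow_fsum _ _ _).symm
  simp only [co4, Prod.mk.injEq] at hs
  obtain ⟨rfl, rfl, rfl, rfl⟩ := hs
  rw [h, prod4]
  rfl

theorem scaleB {a b ab aab : Rt chevF4} (χ : Fin chevF4.rank → Kˣ) (c : Kˣ) (hb : C.chr K χ b = c)
    (ha : C.chr K χ a = Units.map (θ : K →* K) c) (hab : C.chr K χ ab = Units.map (θ : K →* K) c * c)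
    (haab : C.chr K χ aab = Units.map (θ : K →* K) c * Units.map (θ : K →* K) c * c) (t u : K) :
    hχ χ * gB θ a b ab aab t u * (hχ χ)⁻¹ = gB θ a b ab aab ((c : K) * t) (θ (c : K) * c * u) := by
  have h1 : θ (θ (c : K)) ^ 2 = c := F.sq _
  rw [gB, gB, show hχ χ * (C.X K a (θ t) * C.X K b t * C.X K ab (θ t * t + u) * C.X K aab (θ u ^ 2)) * (hχ χ)⁻¹ =
    hχ χ * C.X K a (θ t) * (hχ χ)⁻¹ * (hχ χ * C.X K b t * (hχ χ)⁻¹) * (hχ χ * C.X K ab (θ t * t + u) * (hχ χ)⁻¹) *
      (hχ χ * C.X K aab (θ u ^ 2) * (hχ χ)⁻¹) by group, hχ_X, hχ_X, hχ_X, hχ_X, hb, ha, hab, haab]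
  simp only [Units.val_mul, Units.coe_map, MonoidHom.coe_coe, map_mul, mul_pow, h1]
  congr 2
  · congr 1; ring
  · ring

theorem scaleP {r s : Rt chevF4} (χ : Fin chevF4.rank → Kˣ) (c : Kˣ) (hs : C.chr K χ s = c)
    (hr : C.chr K χ r = Units.map (θ : K →* K) c) (t : K) :
    hχ χ * gP θ r s t * (hχ χ)⁻¹ = gP θ r s ((c : K) * t) := by
  rw [gP, gP, map_mul, show hχ χ * (C.X K r (θ t) * C.X K s t) * (hχ χ)⁻¹ =
    hχ χ * C.X K r (θ t) * (hχ χ)⁻¹ * (hχ χ * C.X K s t * (hχ χ)⁻¹) by group, hχ_X, hχ_X, hs, hr]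
  rfl

theorem moveB (L : List (Fin chevF4.rank)) {a b ab aab a' b' ab' aab' : Rt chevF4}
    (ha : C.pprod L a = a') (hb : C.pprod L b = b') (hab : C.pprod L ab = ab') (haab : C.pprod L aab = aab')
    (t u : K) :
    C.wprod K L * gB θ a b ab aab t u * (C.wprod K L)⁻¹ = gB θ a' b' ab' aab' t u := by
  rw [gB, gB, ← ha, ← hb, ← hab, ← haab, ← wprod_conj F L a, ← wprod_conj F L b, ← wprod_conj F L ab,
    ← wprod_conj F L aab]
  group

theorem moveP (L : List (Fin chevF4.rank)) {r s r' s' : Rt chevF4} (hr : C.pprod L r = r')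
    (hs : C.pprod L s = s') (t : K) :
    C.wprod K L * gP θ r s t * (C.wprod K L)⁻¹ = gP θ r' s' t := by
  rw [gP, gP, ← hr, ← hs, ← wprod_conj F L r, ← wprod_conj F L s]
  group

theorem moveB_iter (k : ℕ) {a b ab aab a' b' ab' aab' : Rt chevF4}
    (ha : (C.pprod Lc : _ → _)^[k] a = a') (hb : (C.pprod Lc : _ → _)^[k] b = b')
    (hab : (C.pprod Lc : _ → _)^[k] ab = ab') (haab : (C.pprod Lc : _ → _)^[k] aab = aab') (t u : K) :
    C.wprod K Lc ^ k * gB θ a b ab aab t u * (C.wprod K Lc ^ k)⁻¹ = gB θ a' b' ab' aab' t u := by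
  subst ha hb hab haab
  induction k with
  | zero => simp
  | succ k ih =>
    rw [pow_succ', show C.wprod K Lc * C.wprod K Lc ^ k * gB θ a b ab aab t u * (C.wprod K Lc * C.wprod K Lc ^ k)⁻¹ =
      C.wprod K Lc * (C.wprod K Lc ^ k * gB θ a b ab aab t u * (C.wprod K Lc ^ k)⁻¹) * (C.wprod K Lc)⁻¹ by group, ih]
    simp only [Function.iterate_succ_apply']
    exact moveB F Lc rfl rfl rfl rfl t u

theorem moveP_iter (k : ℕ) {r s r' s' : Rt chevF4} (hr : (C.pprod Lc : _ → _)^[k] r = r')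
    (hs : (C.pprod Lc : _ → _)^[k] s = s') (t : K) :
    C.wprod K Lc ^ k * gP θ r s t * (C.wprod K Lc ^ k)⁻¹ = gP θ r' s' t := by
  subst hr hs
  induction k with
  | zero => simp
  | succ k ih =>
    rw [pow_succ', show C.wprod K Lc * C.wprod K Lc ^ k * gP θ r s t * (C.wprod K Lc * C.wprod K Lc ^ k)⁻¹ =
      C.wprod K Lc * (C.wprod K Lc ^ k * gP θ r s t * (C.wprod K Lc ^ k)⁻¹) * (C.wprod K Lc)⁻¹ by group, ih]
    simp only [Function.iterate_succ_apply']
    exact moveP F Lc rfl rfl t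

omit F

theorem iter_eq (k : ℕ) {r r' : Rt chevF4} (h : (Data.F4.fast.actW (Lc.map Fin.val))^[k] r.val = r'.val) :
    (C.pprod Lc : _ → _)^[k] r = r' := by
  refine Fin.ext (Eq.trans ?_ h)
  clear h
  induction k with
  | zero => rfl
  | succ k ih =>
    rw [Function.iterate_succ_apply', Function.iterate_succ_apply', ← ih]
    exact Cert.F4.certified.actW_eq Lc _

theorem one_eq {r r' : Rt chevF4} (h : Data.F4.fast.actW (Lc.map Fin.val) r.val = r'.val) :
    C.pprod Lc r = r' := iter_eq 1 h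

include F

theorem theta_mul_inj {z : Kˣ} (hz : θ (z : K) * z = 1) : z = 1 := by
  have h2 := congrArg θ hz
  rw [map_mul, map_one] at h2
  have h3 : θ (θ (z : K)) = z :=
    mul_right_cancel₀ ((map_ne_zero θ).2 z.ne_zero) (h2.trans ((mul_comm _ _).trans hz).symm)
  have h4 := F.sq (z : K)
  rw [h3, sq] at h4
  exact Units.ext (mul_right_cancel₀ z.ne_zero (h4.trans (one_mul _).symm))

set_option maxHeartbeats 1600000 in
theorem two_generated [Fintype K] (hq : 2 < Fintype.card K) :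
    ∃ a b : ↥(G K e), Subgroup.closure ({a, b} : Set ↥(G K e)) = ⊤ := by
  classical
  have := F.two
  obtain ⟨l, hl⟩ := IsCyclic.exists_generator (α := Kˣ)
  have hl1 : l ≠ 1 := by
    intro h
    subst h
    have h1 : ∀ z : Kˣ, z = 1 := fun z => by
      have := hl z
      rwa [Subgroup.zpowers_one_eq_bot, Subgroup.mem_bot] at this
    have : Fintype.card Kˣ ≤ 1 := Fintype.card_le_one_iff.2 fun a b => (h1 a).trans (h1 b).symm
    rw [Fintype.card_units] at this
    omega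
  obtain ⟨v24, v33⟩ := coef_pair
  obtain ⟨v25, v27, v28, v30⟩ := coef_base
  obtain ⟨v21, v13, v11, v5⟩ := coef_pre
  obtain ⟨v15, v10⟩ := coef_next
  obtain ⟨⟨m21, m13, m11, m5⟩, ⟨m24, m33⟩, ⟨m724, m733, m323, m314⟩, ⟨m420, m422, m419, m417⟩⟩ := moves
  set hz : Kˣ → GL chevF4.Idx K := fun z => hχ (χOf θ 1 z) with hhz
  set n := C.wprod K Lc with hn
  set A := hz l * gPp θ 1 with hA
  set B := gBp θ 1 0 * n with hB
  have hnG : n ∈ G K e := by
    rw [hn, Lc, C.wprod_append]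
    exact mul_mem (nO1_mem F) (nO0_mem F)
  have hAG : A ∈ G K e := mul_mem (χOf_mem F 1 l) (gP_mem F 1).1
  have hBG : B ∈ G K e := mul_mem (gB_mem F 1 0).1 hnG
  refine ⟨⟨A, hAG⟩, ⟨B, hBG⟩, Subgroup.map_injective (G K e).subtype_injective ?_⟩
  rw [MonoidHom.map_closure, ← MonoidHom.range_eq_map, Subgroup.range_subtype, Set.image_pair]
  set M := Subgroup.closure ({A, B} : Set (GL chevF4.Idx K)) with hM
  show M = G K e
  refine le_antisymm ((Subgroup.closure_le _).2 (Set.insert_subset hAG (Set.singleton_subset_iff.2 hBG))) ?_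
  have hAM : A ∈ M := Subgroup.subset_closure (by simp)
  have hBM : B ∈ M := Subgroup.subset_closure (by simp)
  have gP0 : ∀ r s : Rt chevF4, gP θ r s (0 : K) = 1 := fun r s => by
    rw [gP, map_zero, C.X_zero, C.X_zero, one_mul]
  have gB0 : ∀ a b ab aab : Rt chevF4, gB θ a b ab aab (0 : K) 0 = 1 := fun a b ab aab => by
    simp [gB, C.X_zero]
  have gBp0 : gBp θ (0 : K) 0 = 1 := gB0 _ _ _ _
  -- splitting
  have hcomm : Commute (hz l) (gPp θ 1) := by
    have := scaleP F (r := R 33) (s := R 24) (χOf θ 1 l) 1 (by rw [chr_eval F 1 l v24]; simp)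
      (by rw [chr_eval F 1 l v33]; simp) 1
    rw [Units.val_one, one_mul] at this
    exact mul_inv_eq_iff_eq_mul.1 this
  let zHom : Kˣ →* GL chevF4.Idx K := MonoidHom.mk' hz fun a b => by
    show hχ _ = hχ _ * hχ _
    rw [hχ_mul, χOf_mul, one_mul]
  have hhM : hz l ∈ M := by
    have e1 : A ^ Fintype.card K = hz l := by
      rw [hA, hcomm.mul_pow]
      have h2 : gPp θ (1 : K) ^ 2 = 1 := by rw [pow_two, gP_mul F pair_pos, F.add_self, gP0]
      have hev : 2 ∣ Fintype.card K := by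
        have h0 := FiniteField.cast_card_eq_zero K
        rwa [CharP.cast_eq_zero_iff K 2] at h0
      obtain ⟨k, hk⟩ := hev
      have h3 : l ^ Fintype.card K = l := Units.ext (by simp [FiniteField.pow_card])
      rw [show hz l ^ Fintype.card K = zHom (l ^ Fintype.card K) from (map_pow zHom l _).symm, h3, hk, pow_mul, h2,
        one_pow, mul_one]
      rfl
    exact e1 ▸ M.pow_mem hAM _
  have hxM : gPp θ 1 ∈ M := by
    have := M.mul_mem (M.inv_mem hhM) hAM
    rwa [hA, inv_mul_cancel_left] at this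
  have hzM : ∀ z, hz z ∈ M := fun z => by
    obtain ⟨k, rfl⟩ := Subgroup.mem_zpowers_iff.1 (hl z)
    show zHom (l ^ k) ∈ M
    rw [map_zpow]
    exact M.zpow_mem hhM k
  have sB : ∀ (z : Kˣ) t u, hz z * gBp θ t u * (hz z)⁻¹ = gBp θ ((z : K) * t) (θ (z : K) * z * u) := fun z t u => by
    refine scaleB F (χOf θ 1 z) z ?_ ?_ ?_ ?_ t u
    · rw [chr_eval F 1 z v25]; simp
    · rw [chr_eval F 1 z v27]; simp
    · rw [chr_eval F 1 z v28]; simp
    · rw [chr_eval F 1 z v30]; simp [pow_two]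
  have sPre : ∀ t u, hz l * gB θ (R 13) (R 21) (R 11) (R 5) t u * (hz l)⁻¹ =
      gB θ (R 13) (R 21) (R 11) (R 5) (((l⁻¹ : Kˣ) : K) * t) (θ ((l⁻¹ : Kˣ) : K) * ((l⁻¹ : Kˣ) : K) * u) := fun t u => by
    refine scaleB F (χOf θ 1 l) l⁻¹ ?_ ?_ ?_ ?_ t u
    · rw [chr_eval F 1 l v21]; simp
    · rw [chr_eval F 1 l v13]; simp
    · rw [chr_eval F 1 l v11]; simp
    · rw [chr_eval F 1 l v5]; simp [pow_two]
  -- an element of the B₂ class with non-trivial first coordinate
  obtain ⟨t1, u1, h1M, ht1⟩ : ∃ t u, gBp θ t u ∈ M ∧ t ≠ 0 := by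
    set h' := n * hz l * n⁻¹ with hh'
    have sh' : ∀ t u, h' * gBp θ t u * h'⁻¹ =
        gBp θ (((l⁻¹ : Kˣ) : K) * t) (θ ((l⁻¹ : Kˣ) : K) * ((l⁻¹ : Kˣ) : K) * u) := by
      intro t u
      have e0 : ∀ t u, n * gB θ (R 13) (R 21) (R 11) (R 5) t u * n⁻¹ = gBp θ t u := fun t u =>
        moveB F Lc (one_eq (r := R 13) (r' := R 27) m13) (one_eq (r := R 21) (r' := R 25) m21)
          (one_eq (r := R 11) (r' := R 28) m11) (one_eq (r := R 5) (r' := R 30) m5) t u
      rw [← e0 t u, show h' * (n * gB θ (R 13) (R 21) (R 11) (R 5) t u * n⁻¹) * h'⁻¹ =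
        n * (hz l * gB θ (R 13) (R 21) (R 11) (R 5) t u * (hz l)⁻¹) * n⁻¹ by rw [hh']; group, sPre, e0]
    have hcd : hz l * h' = h' * hz l := by
      obtain ⟨χ', hχ'⟩ := exists_hχ (C.conj_diagonal (C.wprod_mem_monomial (F := K) Lc) (hχ_mem_diagonal (χOf θ 1 l)))
      rw [show h' = hχ χ' from hχ', show hz l = hχ (χOf θ 1 l) from rfl, hχ_mul, hχ_mul, mul_comm]
    have binv : ∀ t u : K, (gBp θ t u)⁻¹ = gBp θ t (u + θ t * t) := fun t u => inv_eq_of_mul_eq_one_right (by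
      rw [gB_mul F b2_pos, F.add_self, show u + (u + θ t * t) + θ t * t = 0 by
        linear_combination (u + θ t * t) * CharTwo.two_eq_zero (R := K), gB0])
    set c := ((l⁻¹ : Kˣ) : K)
    obtain ⟨w, hg⟩ : ∃ w, gBp θ (1 + c) w * h' ∈ M := by
      have e1 : B * hz l * B⁻¹ = gBp θ 1 0 * (h' * gBp θ 1 (0 + θ 1 * 1) * h'⁻¹) * h' := by
        rw [hB, hh', ← binv]; group
      have h2 := M.mul_mem (M.mul_mem hBM hhM) (M.inv_mem hBM)
      rw [e1, sh', gB_mul F b2_pos, mul_one] at h2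
      exact ⟨_, h2⟩
    have h3 := M.mul_mem (M.mul_mem (M.mul_mem hhM hg) (M.inv_mem hhM)) (M.inv_mem hg)
    rw [show hz l * (gBp θ (1 + c) w * h') * (hz l)⁻¹ * (gBp θ (1 + c) w * h')⁻¹ =
      hz l * gBp θ (1 + c) w * (hz l)⁻¹ * (hz l * h' * (hz l)⁻¹ * h'⁻¹) * (gBp θ (1 + c) w)⁻¹ by group,
      sB, hcd, mul_inv_cancel_right, mul_inv_cancel, mul_one, binv, gB_mul F b2_pos] at h3
    refine ⟨_, _, h3, ?_⟩
    have hl' : (l : K) + 1 ≠ 0 := fun h0 => hl1 (Units.ext (by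
      have := eq_neg_of_add_eq_zero_left h0
      rwa [F.neg] at this))
    have hc : 1 + c ≠ 0 := fun h0 => hl1 (inv_eq_one.1 (Units.ext (by
      have := eq_neg_of_add_eq_zero_right h0
      rwa [F.neg] at this)))
    rw [← add_one_mul]
    exact mul_ne_zero hl' hc
  have hBfirst : ∀ t, ∃ u, gBp θ t u ∈ M := by
    intro t
    by_cases ht : t = 0
    · exact ⟨0, by rw [ht, gBp0]; exact M.one_mem⟩
    set z := Units.mk0 (t / t1) (div_ne_zero ht ht1)
    have h2 := M.mul_mem (M.mul_mem (hzM z) h1M) (M.inv_mem (hzM z))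
    rw [sB, Units.val_mk0, div_mul_cancel₀ _ ht1] at h2
    exact ⟨_, h2⟩
  have hB0 : ∀ u, gBp θ 0 u ∈ M := by
    intro u
    by_cases hu : u = 0
    · rw [hu, gBp0]; exact M.one_mem
    let f : Kˣ →* Kˣ := MonoidHom.mk' (fun z => Units.map (θ : K →* K) z * z) fun a b => by
      rw [map_mul, mul_mul_mul_comm]
    have hinj : Function.Injective f := (injective_iff_map_eq_one f).2 fun z hz => theta_mul_inj F (by
      simpa [f] using congrArg Units.val hz)
    obtain ⟨z, hz⟩ := Finite.injective_iff_surjective.1 hinj (Units.mk0 u hu)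
    obtain ⟨w, hw⟩ := hBfirst (z : K)
    have := M.mul_mem hw hw
    rw [gB_mul F b2_pos, F.add_self, F.add_self, zero_add] at this
    rwa [show u = θ (z : K) * z by simpa [f] using (congrArg Units.val hz).symm]
  have hBall : ∀ t u, gBp θ t u ∈ M := by
    intro t u
    obtain ⟨w, hw⟩ := hBfirst t
    have := M.mul_mem hw (hB0 (u + w))
    rwa [gB_mul F b2_pos, add_zero, mul_zero, add_zero, add_left_comm, F.add_self, add_zero] at this
  have hnM : n ∈ M := by
    have := M.mul_mem (M.inv_mem (hBall 1 0)) hBM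
    rwa [hB, inv_mul_cancel_left] at this
  have hPall : ∀ t, gP θ (R 10) (R 15) t ∈ M := by
    intro t
    by_cases ht : t = 0
    · rw [ht, gP0]; exact M.one_mem
    have h1 : gP θ (R 10) (R 15) (1 : K) ∈ M := by
      rw [← moveP F Lc (one_eq (r := R 33) (r' := R 10) m33) (one_eq (r := R 24) (r' := R 15) m24) 1]
      exact M.mul_mem (M.mul_mem hnM hxM) (M.inv_mem hnM)
    let f : Kˣ →* Kˣ := MonoidHom.mk' (fun z => (Units.map (θ : K →* K) z * z)⁻¹ ^ 2) fun a b => by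
      rw [map_mul, mul_mul_mul_comm, mul_inv, mul_pow]
    have hinj : Function.Injective f := (injective_iff_map_eq_one f).2 fun z hz => theta_mul_inj F (by
      have h2 : (θ (z : K) * z) ^ 2 = 1 := by
        have h1 : (Units.map (θ : K →* K) z * z) ^ 2 = 1 := by
          rw [← inv_eq_one, ← inv_pow]; exact hz
        simpa only [Units.val_pow_eq_pow_val, Units.val_mul, Units.coe_map, MonoidHom.coe_coe, Units.val_one]
          using congrArg Units.val h1
      have h3 : (θ (z : K) * z + 1) ^ 2 = 0 := by rw [CharTwo.add_sq, h2, one_pow, F.add_self]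
      have h4 := eq_neg_of_add_eq_zero_left ((pow_eq_zero_iff two_ne_zero).1 h3)
      rwa [F.neg] at h4)
    obtain ⟨z, hz'⟩ := Finite.injective_iff_surjective.1 hinj (Units.mk0 t ht)
    have hs := scaleP F (r := R 10) (s := R 15) (χOf θ 1 z) ((Units.map (θ : K →* K) z * z)⁻¹ ^ 2)
      (by
        rw [chr_eval F 1 z v15]
        simp only [map_one, one_zpow, one_mul, mul_one]
        show Units.map (θ : K →* K) z ^ (-2 : ℤ) * z ^ (-2 : ℤ) = _
        rw [← mul_zpow, zpow_neg, inv_pow]; rfl)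
      (by
        rw [chr_eval F 1 z v10]
        simp only [map_one, one_zpow, one_mul, mul_one]
        show Units.map (θ : K →* K) z ^ (-2 : ℤ) * z ^ (-1 : ℤ) = _
        refine Units.ext ?_
        have hzsq := F.sq (z : K)
        simp only [zpow_neg, zpow_ofNat, zpow_one, Units.val_mul, Units.val_inv_eq_inv_val, Units.val_pow_eq_pow_val,
          Units.coe_map, MonoidHom.coe_coe, map_pow, map_inv₀, map_mul, inv_pow, mul_pow, mul_inv, hzsq,
          pow_one]
        ring) 1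
    rw [mul_one, show ((Units.map (θ : K →* K) z * z)⁻¹ ^ 2) = Units.mk0 t ht from hz', Units.val_mk0] at hs
    rw [← hs]
    exact M.mul_mem (M.mul_mem (hzM z) h1) (M.inv_mem (hzM z))
  intro g hg
  refine G_induction F (p := fun g => g ∈ M) M.one_mem (fun t u => ⟨hBall t u, ?_⟩) (fun t => ⟨?_, ?_⟩)
    (fun _ _ _ _ => M.mul_mem) (fun _ _ => M.inv_mem) hg
  · rw [← moveB_iter F 4 (iter_eq 4 (r := R 27) (r' := R 20) m420) (iter_eq 4 (r := R 25) (r' := R 22) m422) (iter_eq 4 (r := R 28) (r' := R 19) m419)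
      (iter_eq 4 (r := R 30) (r' := R 17) m417) t u]
    exact M.mul_mem (M.mul_mem (M.pow_mem hnM 4) (hBall t u)) (M.inv_mem (M.pow_mem hnM 4))
  · rw [← moveP_iter F 7 (iter_eq 7 (r := R 10) (r' := R 33) m733) (iter_eq 7 (r := R 15) (r' := R 24) m724) t]
    exact M.mul_mem (M.mul_mem (M.pow_mem hnM 7) (hPall t)) (M.inv_mem (M.pow_mem hnM 7))
  · rw [← moveP_iter F 3 (iter_eq 3 (r := R 10) (r' := R 14) m314) (iter_eq 3 (r := R 15) (r' := R 23) m323) t]
    exact M.mul_mem (M.mul_mem (M.pow_mem hnM 3) (hPall t)) (M.inv_mem (M.pow_mem hnM 3))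

end Cfsg.Agent.Lib.TwistTwoGen49.F4
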