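import Cfsg.Agent.Lib.LieTwisted.Twist.OrthPerfect
import Cfsg.Agent.Lib.ChevTwoGen49.Gen

/-!
Two-generation of twisted groups with orthogonal orbits.

The generators are `h x_{r₀}(1)`, with `h` a torus element centralising the fixed root `r₀`, and
`x¹_{m₁}(1) n`, with `n` a product of the orbit reflections. Root elements are moved around by `n` and by
the reflection of the orbit `m₁` until every fundamental orbit group is reached.
-/

set_option autoImplicit false
set_option linter.unusedSectionVars false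
set_option linter.style.haveILetI false

namespace Cfsg.Agent.Lib.TwistTwoGen49

open Cfsg.Lie ChevStructure Cfsg.Agent.Lib.LieTwisted.Twist
open scoped MatrixGroups

variable {D : ChevalleyDatum} {C : Core D} {K : Type*} [Field K] (O : Orth C K)

/-- The product over the powers of the endomorphism of a root element. -/
def Z (r : Rt D) (t : K) : GL D.Idx K :=
  ((List.range O.n).map fun k => (O.Θ : _ → _)^[k] (C.X K r t)).prod

theorem iter_fixed {g : GL D.Idx K} (hg : O.Θ g = g) (k : ℕ) : (O.Θ : _ → _)^[k] g = g :=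
  Function.iterate_fixed hg k

/-- Conjugation by a fixed element moving one root subgroup to another. -/
theorem conj_Z {g : GL D.Idx K} (hg : O.Θ g = g) {r r' : Rt D} {e : K}
    (h : ∀ t, g * C.X K r t * g⁻¹ = C.X K r' (e * t)) (t : K) :
    g * Z O r t * g⁻¹ = Z O r' (e * t) := by
  rw [Z, Z, show g * _ * g⁻¹ = MulAut.conj g _ from (MulAut.conj_apply _ _).symm, map_list_prod, List.map_map]
  refine congrArg List.prod (List.map_congr_left fun k _ => ?_)
  rw [Function.comp_apply, MulAut.conj_apply, ← h t, O.Θ_iter_mul, O.Θ_iter_mul, iter_fixed O hg,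
    iter_fixed O (by rw [map_inv, hg] : O.Θ g⁻¹ = g⁻¹)]

theorem Θ_iter_sd (s : Bool) (k : ℕ) (i : Fin D.rank) (t : K) :
    (O.Θ : _ → _)^[k] (C.X K (sd s (C.p i)) t) =
      C.X K (sd s (C.p ((O.ρ : _ → _)^[k] i))) ((O.φ : K → K)^[k] t) := by
  induction k with
  | zero => rfl
  | succ k ih =>
    rw [Function.iterate_succ_apply', ih, Function.iterate_succ_apply', Function.iterate_succ_apply', O.Θ_X]
    cases s
    · simp [sd, O.π_p, (O.ε_p _).1]
    · simp [sd, O.π_rev, O.π_p, (O.ε_p _).2]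

theorem xS_eq_Z {i : Fin D.rank} (hi : O.ρ i ≠ i) (s : Bool) (t : K) :
    O.xS s i t = Z O (sd s (C.p i)) t := by
  rw [Orth.xS, Orth.oprod, Z, show O.sz i = O.n from if_neg hi]
  exact congrArg List.prod (List.map_congr_left fun k _ => (Θ_iter_sd O s k i t).symm)

theorem valid_moved {i : Fin D.rank} (hi : O.ρ i ≠ i) (t : K) : O.Valid i t := by
  unfold Orth.Valid
  rw [show O.sz i = O.n from if_neg hi]
  exact O.φ_pow t

/-- A fundamental orbit element is also the product over the powers from any root of its orbit. -/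
theorem exists_rotate {i : Fin D.rank} (hi : O.ρ i ≠ i) (s : Bool) (j : ℕ) (t : K) :
    ∃ u : K, O.xS s i t = Z O ((O.π : _ → _)^[j] (sd s (C.p i))) u := by
  refine ⟨(O.Eps j (sd s (C.p i)) : K) * (O.φ : K → K)^[j] t, ?_⟩
  have hfix : O.Θ (O.xS s i t) = O.xS s i t := O.Θ_xS (valid_moved O hi t)
  rw [← iter_fixed O hfix j, xS_eq_Z O hi, Z, Z]
  have hhom : ∀ L : List (GL D.Idx K), (O.Θ : _ → _)^[j] L.prod = (L.map ((O.Θ : _ → _)^[j])).prod := by
    intro L
    induction L with
    | nil => simp [iter_fixed O (map_one O.Θ)]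
    | cons x L ih => rw [List.prod_cons, O.Θ_iter_mul, ih, List.map_cons, List.prod_cons]
  rw [hhom, List.map_map]
  refine congrArg List.prod (List.map_congr_left fun k _ => ?_)
  rw [Function.comp_apply, ← Function.iterate_add_apply, add_comm, Function.iterate_add_apply,
    O.Θ_iter_X j]

theorem X_inj {r : Rt D} {t u : K} (h : C.X K r t = C.X K r u) : t = u := by
  have h1 : C.X K r (t + -u) = 1 := by rw [← C.X_add, h, C.X_add, add_neg_cancel, C.X_zero]
  exact add_neg_eq_zero.1 (C.X_eq_one h1)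

theorem wprod_Jl_eq (m : Fin O.nn) :
    C.wprod K (O.Jl m) =
      O.xS false (O.os m) 1 * O.xS true (O.os m) (-1) * O.xS false (O.os m) 1 := by
  have hm1 : ∀ k, (O.φ : K → K)^[k] (-1) = -1 := fun k =>
    Function.iterate_fixed (by rw [map_neg, map_one]) k
  rw [Core.wprod, Orth.Jl, List.map_map]
  simp only [Orth.xS, Orth.oprod]
  rw [← prod_split _ List.nodup_range _ _ fun a ha b hb hab =>
      O.commute_root true false (List.mem_range.1 ha) (List.mem_range.1 hb) hab _ _,
    ← prod_split _ List.nodup_range _ _ fun a ha b hb hab =>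
      (O.commute_root false false (List.mem_range.1 ha) (List.mem_range.1 hb) hab _ _).mul_right
        (O.commute_root false true (List.mem_range.1 ha) (List.mem_range.1 hb) hab _ _)]
  refine congrArg List.prod (List.map_congr_left fun k _ => ?_)
  simp only [Function.comp_apply, Core.P, Core.nR, sd, cond_true, cond_false, hm1, O.φ_iter_one,
    inv_one, Units.val_one]

/-- The word given by a sequence of the two available steps. -/
def word (L0 : List (Fin O.nn)) (m1 : Fin O.nn) (w : List Bool) : List (Fin D.rank) :=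
  w.flatMap fun b => if b then L0.flatMap O.Jl else O.Jl m1

theorem wprod_flat_mem [Finite K] (L : List (Fin O.nn)) : C.wprod K (L.flatMap O.Jl) ∈ O.G1 := by
  induction L with
  | nil => exact one_mem _
  | cons a L ih =>
    rw [List.flatMap_cons, C.wprod_append]
    exact mul_mem (O.P_orbit_mem a) ih

/-- The criterion. -/
theorem two_generated [Finite K] (L0 : List (Fin O.nn)) (m1 : Fin O.nn) (hm1 : O.ρ (O.os m1) ≠ O.os m1)
    (r0 : Rt D) (k : ℕ) (d : Fin D.rank → Kˣ) (b : Kˣ) (hd : O.τc d = d)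
    (hb : ∀ z : Kˣ, z ∈ Subgroup.zpowers b)
    (hr0 : O.Θ (C.X K r0 1) = C.X K r0 1) (hχ0 : C.chA d r0 = 1) (hχ1 : C.chA d (C.p (O.os m1)) = b ^ (2 : ℕ))
    (hχq : ∀ q0, C.pprod (L0.flatMap O.Jl) q0 = C.p (O.os m1) → C.chA d q0 ≠ 1)
    (hπs : O.π ((C.pprod (L0.flatMap O.Jl) : _ → _)^[k] r0) = (C.pprod (L0.flatMap O.Jl) : _ → _)^[k] r0)
    (hχs : ∀ z : Kˣ, O.φ (z : K) = z → ∃ l : ℤ,
      (C.chA d ((C.pprod (L0.flatMap O.Jl) : _ → _)^[k] r0)) ^ l = z ^ (2 : ℕ))
    (hneg : ∃ i j : ℕ, (C.pprod (L0.flatMap O.Jl) : _ → _)^[i] (C.p (O.os m1)) =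
      (O.π : _ → _)^[j] (C.p (O.os m1)).rev)
    (hmoved : ∀ m, O.ρ (O.os m) ≠ O.os m → ∀ s, ∃ w : List Bool, ∃ j : ℕ,
      C.pprod (word O L0 m1 w) (C.p (O.os m1)) = (O.π : _ → _)^[j] (sd s (C.p (O.os m))))
    (hfixed : ∀ m, O.ρ (O.os m) = O.os m → ∀ s, ∃ w : List Bool,
      C.pprod (word O L0 m1 w) ((C.pprod (L0.flatMap O.Jl) : _ → _)^[k] r0) = sd s (C.p (O.os m))) :
    ∃ a c : ↥O.G1, Subgroup.closure ({a, c} : Set ↥O.G1) = ⊤ := by
  classical
  haveI := Fintype.ofFinite K
  set Lc := L0.flatMap O.Jl with hLc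
  set n := C.wprod K Lc with hn
  set σ := C.pprod Lc with hσ
  set r1 := C.p (O.os m1) with hr1
  set h := C.HT K d with hh
  set A := h * C.X K r0 1 with hA
  set B := O.xS false (O.os m1) 1 * n with hB
  have hnG : n ∈ O.G1 := wprod_flat_mem O L0
  have hhG : h ∈ O.G1 := O.HT_fixed_mem d hd
  have hX0G : C.X K r0 1 ∈ O.G1 := O.tw.mem_W_iff.2 ⟨O.X_mem_group _ _, hr0⟩
  have hx1G : O.xS false (O.os m1) 1 ∈ O.G1 := O.xS_mem _ (valid_moved O hm1 1)
  have hAG : A ∈ O.G1 := mul_mem hhG hX0G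
  have hBG : B ∈ O.G1 := mul_mem hx1G hnG
  refine ⟨⟨A, hAG⟩, ⟨B, hBG⟩, Subgroup.map_injective O.G1.subtype_injective ?_⟩
  rw [MonoidHom.map_closure, ← MonoidHom.range_eq_map, Subgroup.range_subtype, Set.image_pair]
  set M := Subgroup.closure ({A, B} : Set (GL D.Idx K)) with hM
  show M = O.G1
  refine le_antisymm ((Subgroup.closure_le _).2 (Set.insert_subset hAG (Set.singleton_subset_iff.2 hBG))) ?_
  have hAM : A ∈ M := Subgroup.subset_closure (by simp)
  have hBM : B ∈ M := Subgroup.subset_closure (by simp)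
  have hfix : ∀ {g}, g ∈ O.G1 → O.Θ g = g := fun {g} hg => O.G1_fix g hg
  have hconjh : ∀ (r : Rt D) (t : K), h * C.X K r t * h⁻¹ = C.X K r ((C.chA d r : K) * t) := fun r t =>
    C.HT_X_conj K d r t
  have hconjx : ∀ t, h * O.xS false (O.os m1) t * h⁻¹ = O.xS false (O.os m1) ((C.chA d r1 : K) * t) := by
    intro t
    rw [xS_eq_Z O hm1, xS_eq_Z O hm1]
    exact conj_Z O (hfix hhG) (fun u => hconjh _ u) t
  -- split the first generator
  have hcomm : Commute h (C.X K r0 1) := by
    have := hconjh r0 1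
    rw [hχ0, Units.val_one, one_mul] at this
    exact mul_inv_eq_iff_eq_mul.1 this
  have hhM : h ∈ M := by
    have e : A ^ Fintype.card K = h := by
      rw [hA, hcomm.mul_pow, ChevTwoGen49.X_pow, FiniteField.cast_card_eq_zero, zero_mul, C.X_zero, mul_one, hh,
        show C.HT K d = C.HThom K d from rfl, ← map_pow]
      congr 1
      funext i
      exact Units.ext (by simp [FiniteField.pow_card])
    exact e ▸ M.pow_mem hAM _
  have hX0M : C.X K r0 1 ∈ M := by
    have := M.mul_mem (M.inv_mem hhM) hAM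
    rwa [hA, inv_mul_cancel_left] at this
  -- the orbit group of `m₁`
  set q0 := σ.symm r1 with hq0
  have hσq : σ q0 = r1 := Equiv.apply_symm_apply _ _
  obtain ⟨e0, he0⟩ := C.acts_wprod K Lc q0
  rw [← hσ, hσq] at he0
  set α := ((C.chA d r1 : Kˣ) : K) with hα
  set β := ((C.chA d q0 : Kˣ) : K) with hβ
  set h' := n * h * n⁻¹ with hh'
  have hnfix : O.Θ n = n := hfix hnG
  have hninv : O.Θ n⁻¹ = n⁻¹ := hfix (inv_mem hnG)
  have hh'x : ∀ t, h' * O.xS false (O.os m1) t * h'⁻¹ = O.xS false (O.os m1) (β * t) := by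
    intro t
    rw [xS_eq_Z O hm1, xS_eq_Z O hm1]
    refine conj_Z O (hfix (mul_mem (mul_mem hnG hhG) (inv_mem hnG))) (fun u => ?_) t
    show h' * C.X K r1 u * h'⁻¹ = C.X K r1 (β * u)
    have e1 : C.X K r1 u = n * C.X K q0 ((↑e0⁻¹ : K) * u) * n⁻¹ := by
      rw [he0, ← mul_assoc, Units.mul_inv, one_mul]
    calc h' * C.X K r1 u * h'⁻¹ = n * (h * C.X K q0 ((↑e0⁻¹ : K) * u) * h⁻¹) * n⁻¹ := by
          rw [hh', e1]; group
      _ = _ := by
          rw [hconjh, he0]; congr 1
          rw [mul_left_comm, ← mul_assoc (e0 : K) (↑e0⁻¹ : K), Units.mul_inv, one_mul]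
  have hcd : h * h' = h' * h := by
    obtain ⟨c₂, hc₂⟩ := C.mem_diagonal_iff.1
      (C.conj_diagonal (C.wprod_mem_monomial Lc) (C.HT_mem_diagonal d))
    rw [show h' = C.HT K c₂ from hc₂, hh, C.HT_mul, C.HT_mul, mul_comm]
  have hd' : O.xS false (O.os m1) ((α - 1) * (1 - β)) ∈ M := by
    have hg : O.xS false (O.os m1) (1 - β) * h' ∈ M := by
      have e : B * h * B⁻¹ = O.xS false (O.os m1) (1 - β) * h' := by
        rw [hB, show O.xS false (O.os m1) 1 * n * h * (O.xS false (O.os m1) 1 * n)⁻¹ =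
          O.xS false (O.os m1) 1 * (h' * O.xS false (O.os m1) (-1) * h'⁻¹) * h' by
            rw [← O.xS_inv, hh']; group, hh'x, O.xS_add, mul_neg, mul_one, ← sub_eq_add_neg]
      exact e ▸ M.mul_mem (M.mul_mem hBM hhM) (M.inv_mem hBM)
    have e : h * (O.xS false (O.os m1) (1 - β) * h') * h⁻¹ * (O.xS false (O.os m1) (1 - β) * h')⁻¹ =
        O.xS false (O.os m1) ((α - 1) * (1 - β)) := by
      calc h * (O.xS false (O.os m1) (1 - β) * h') * h⁻¹ * (O.xS false (O.os m1) (1 - β) * h')⁻¹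
          = h * O.xS false (O.os m1) (1 - β) * h⁻¹ * (h * h' * h⁻¹ * h'⁻¹) *
              (O.xS false (O.os m1) (1 - β))⁻¹ := by group
        _ = O.xS false (O.os m1) (α * (1 - β)) * O.xS false (O.os m1) (-(1 - β)) := by
            rw [hcd, hconjx, O.xS_inv, mul_inv_cancel_right, mul_inv_cancel, mul_one]
        _ = _ := by rw [O.xS_add]; congr 1; ring
    exact e ▸ M.mul_mem (M.mul_mem (M.mul_mem hhM hg) (M.inv_mem hhM)) (M.inv_mem hg)
  have hK4 : 4 ≤ Fintype.card K := by
    have h1 := O.card_K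
    rw [Nat.card_eq_fintype_card] at h1
    have h1' : 1 < Fintype.card K := Fintype.one_lt_card
    have hq : 1 < O.q := by
      by_contra hq
      have : O.q ^ O.n ≤ 1 := (Nat.pow_le_one_iff (by have := O.two_le; omega)).2 (by omega)
      omega
    rw [h1]
    exact le_trans (by norm_num) ((Nat.pow_le_pow_left hq 2).trans (Nat.pow_le_pow_right (by omega) O.two_le))
  have hα1 : α ≠ 1 := by
    intro e
    rw [hα, Units.val_eq_one, hχ1] at e
    have h1 := orderOf_dvd_of_pow_eq_one e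
    rw [orderOf_eq_card_of_forall_mem_zpowers hb, Nat.card_units, Nat.card_eq_fintype_card] at h1
    have := Nat.le_of_dvd (by norm_num) h1
    omega
  have hβ1 : β ≠ 1 := fun e => hχq q0 hσq (Units.val_eq_one.1 e)
  have hhpow : ∀ l : ℤ, h ^ l = C.HT K (d ^ l) := fun l => (map_zpow (C.HThom K) d l).symm
  have hx1M : ∀ t, O.xS false (O.os m1) t ∈ M := by
    intro t
    let S : AddSubgroup K :=
      { carrier := {t | O.xS false (O.os m1) t ∈ M}
        add_mem' := fun {a c} ha hc => by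
          show O.xS false (O.os m1) (a + c) ∈ M; rw [← O.xS_add]; exact M.mul_mem ha hc
        zero_mem' := by show O.xS false (O.os m1) 0 ∈ M; rw [O.xS_zero]; exact M.one_mem
        neg_mem' := fun {a} ha => by
          show O.xS false (O.os m1) (-a) ∈ M; rw [← O.xS_inv]; exact M.inv_mem ha }
    refine ChevTwoGen49.addSubgroup_top (S := S) (mul_ne_zero (sub_ne_zero.2 hα1) (sub_ne_zero.2 hβ1.symm))
      (A := 2) (Or.inr rfl) (fun z => ?_) t
    obtain ⟨l, rfl⟩ := Subgroup.mem_zpowers_iff.1 (hb z)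
    have e : C.chA (d ^ l) r1 = (b ^ l) ^ (2 : ℤ) := by
      rw [zpow_ofNat, ← zpow_natCast, ← zpow_mul, mul_comm, zpow_mul, zpow_natCast, ← hχ1]
      simp only [Core.chA, Pi.pow_apply, ← Finset.prod_zpow, ← zpow_mul, mul_comm l]
    have key : h ^ l * O.xS false (O.os m1) ((α - 1) * (1 - β)) * (h ^ l)⁻¹ =
        O.xS false (O.os m1) (((b ^ l) ^ (2 : ℤ) : Kˣ) * ((α - 1) * (1 - β))) := by
      rw [← e, xS_eq_Z O hm1, xS_eq_Z O hm1]
      refine conj_Z O (hfix (zpow_mem hhG l)) (fun u => ?_) _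
      rw [hhpow, C.HT_X_conj]
      rfl
    show O.xS false (O.os m1) _ ∈ M
    rw [mul_comm, ← key]
    exact M.mul_mem (M.mul_mem (M.zpow_mem hhM l) hd') (M.inv_mem (M.zpow_mem hhM l))
  have hnM : n ∈ M := by
    have := M.mul_mem (M.inv_mem (hx1M 1)) hBM
    rwa [hB, inv_mul_cancel_left] at this
  -- full moved orbits are preserved by the Weyl group elements in `M`
  let FM : Rt D → Prop := fun r => ∀ t, Z O r t ∈ M
  let FF : Rt D → Prop := fun r => ∀ t, O.Θ (C.X K r t) = C.X K r t → C.X K r t ∈ M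
  have moveM : ∀ (L : List (Fin D.rank)), C.wprod K L ∈ M → O.Θ (C.wprod K L) = C.wprod K L →
      ∀ r, FM r → FM (C.pprod L r) := by
    intro L hL hLf r hr t
    obtain ⟨e, he⟩ := C.acts_wprod K L r
    rw [show t = (e : K) * ((↑e⁻¹ : K) * t) by rw [← mul_assoc, Units.mul_inv, one_mul], ← conj_Z O hLf he]
    exact M.mul_mem (M.mul_mem hL (hr _)) (M.inv_mem hL)
  have moveF : ∀ (L : List (Fin D.rank)), C.wprod K L ∈ M → O.Θ (C.wprod K L) = C.wprod K L →
      ∀ r, FF r → FF (C.pprod L r) := by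
    intro L hL hLf r hr t ht
    obtain ⟨e, he⟩ := C.acts_wprod K L r
    have e1 : C.X K r ((↑e⁻¹ : K) * t) =
        (C.wprod K L)⁻¹ * C.X K (C.pprod L r) t * C.wprod K L := by
      have := he ((↑e⁻¹ : K) * t)
      rw [← mul_assoc (e : K), Units.mul_inv, one_mul] at this
      rw [← this]; group
    have h2 := hr _ (show O.Θ (C.X K r ((↑e⁻¹ : K) * t)) = _ by
      rw [e1, map_mul, map_mul, map_inv, hLf, ht])
    rw [show t = (e : K) * ((↑e⁻¹ : K) * t) by rw [← mul_assoc, Units.mul_inv, one_mul], ← he]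
    exact M.mul_mem (M.mul_mem hL h2) (M.inv_mem hL)
  have hr1M : FM r1 := fun t => by
    have := hx1M t
    rwa [xS_eq_Z O hm1] at this
  have hxrev : ∀ t, O.xS true (O.os m1) t ∈ M := by
    obtain ⟨i, j, hij⟩ := hneg
    have hi : ∀ i, FM ((σ : _ → _)^[i] r1) := by
      intro i
      induction i with
      | zero => exact hr1M
      | succ i ih => rw [Function.iterate_succ_apply']; exact moveM Lc hnM hnfix _ ih
    intro t
    obtain ⟨u, hu⟩ := exists_rotate O hm1 true j t
    have := hi i u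
    rw [hij] at this
    rw [hu]
    exact this
  have hsM : C.wprod K (O.Jl m1) ∈ M := by
    rw [wprod_Jl_eq]; exact M.mul_mem (M.mul_mem (hx1M 1) (hxrev _)) (hx1M 1)
  have hwM : ∀ w : List Bool, C.wprod K (word O L0 m1 w) ∈ M ∧
      O.Θ (C.wprod K (word O L0 m1 w)) = C.wprod K (word O L0 m1 w) := by
    intro w
    induction w with
    | nil =>
      show C.wprod K [] ∈ M ∧ O.Θ (C.wprod K []) = C.wprod K []
      simp [Core.wprod]
    | cons c w ih =>
      show C.wprod K ((if c then Lc else O.Jl m1) ++ word O L0 m1 w) ∈ M ∧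
        O.Θ (C.wprod K ((if c then Lc else O.Jl m1) ++ word O L0 m1 w)) = _
      have hc : C.wprod K (if c then Lc else O.Jl m1) ∈ M ∧
          O.Θ (C.wprod K (if c then Lc else O.Jl m1)) = C.wprod K (if c then Lc else O.Jl m1) := by
        cases c
        · exact ⟨hsM, hfix (O.P_orbit_mem m1)⟩
        · exact ⟨hnM, hnfix⟩
      rw [C.wprod_append]
      exact ⟨M.mul_mem hc.1 ih.1, by rw [map_mul, hc.2, ih.2, ← C.wprod_append]; rfl⟩
  -- the fixed root
  set s := (σ : _ → _)^[k] r0 with hs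
  have hsF : FF s := by
    obtain ⟨es, hes0, hesM⟩ : ∃ es : K, es ≠ 0 ∧ C.X K s es ∈ M ∧ O.Θ (C.X K s es) = C.X K s es := by
      rw [hs]
      clear hs s hχs hπs hfixed
      induction k with
      | zero => exact ⟨1, one_ne_zero, hX0M, hr0⟩
      | succ k ih =>
        obtain ⟨es, h0, h1, h2⟩ := ih
        obtain ⟨e, he⟩ := C.acts_wprod K Lc ((σ : _ → _)^[k] r0)
        refine ⟨e * es, mul_ne_zero e.ne_zero h0, ?_, ?_⟩
        · rw [Function.iterate_succ_apply', ← he]; exact M.mul_mem (M.mul_mem hnM h1) (M.inv_mem hnM)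
        · rw [Function.iterate_succ_apply', ← he, map_mul, map_mul, map_inv, hnfix, h2]
    obtain ⟨hesM, hesf⟩ := hesM
    intro t ht
    rw [O.Θ_X, hπs] at hesf ht
    have h1 : (O.ε s : K) * O.φ es = es := X_inj hesf
    have h2 : (O.ε s : K) * O.φ t = t := X_inj ht
    set k0 : Subfield K := RingHom.eqLocusField (O.φ : K →+* K) (RingHom.id K) with hk0
    have hte : t / es ∈ k0 := by
      show O.φ (t / es) = t / es
      rw [map_div₀]
      conv_rhs => rw [← h1, ← h2]
      rw [mul_div_mul_left _ _ (O.ε_ne s)]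
    let S : AddSubgroup ↥k0 :=
      { carrier := {x | C.X K s ((x : K) * es) ∈ M}
        add_mem' := fun {a c} ha hc => by
          show C.X K s (((a + c : ↥k0) : K) * es) ∈ M
          rw [Subfield.coe_add, add_mul, ← C.X_add]; exact M.mul_mem ha hc
        zero_mem' := by show C.X K s (((0 : ↥k0) : K) * es) ∈ M; simp [C.X_zero]
        neg_mem' := fun {a} ha => by
          show C.X K s (((-a : ↥k0) : K) * es) ∈ M
          rw [Subfield.coe_neg, neg_mul, ← C.X_inv]; exact M.inv_mem ha }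
    have hS : (⟨t / es, hte⟩ : ↥k0) ∈ S := by
      refine ChevTwoGen49.addSubgroup_top (S := S) one_ne_zero (A := 2) (Or.inr rfl) (fun z => ?_) _
      set z' : Kˣ := Units.map (k0.subtype : ↥k0 →* K) z with hz'
      obtain ⟨l, hl⟩ := hχs z' (z : ↥k0).2
      show C.X K s (((1 * ((z ^ (2 : ℤ) : (↥k0)ˣ) : ↥k0) : ↥k0) : K) * es) ∈ M
      have e : ((1 * ((z ^ (2 : ℤ) : (↥k0)ˣ) : ↥k0) : ↥k0) : K) = (C.chA (d ^ l) s : K) := by
        have : C.chA (d ^ l) s = (C.chA d s) ^ l := by
          simp only [Core.chA, Pi.pow_apply, ← Finset.prod_zpow, ← zpow_mul, mul_comm l]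
        rw [this, hl, one_mul, zpow_ofNat, hz']
        simp
      rw [e, ← C.HT_X_conj, ← hhpow]
      exact M.mul_mem (M.mul_mem (M.zpow_mem hhM l) hesM) (M.inv_mem (M.zpow_mem hhM l))
    have := hS
    change C.X K s (t / es * es) ∈ M at this
    rwa [div_mul_cancel₀ _ hes0] at this
  -- all fundamental orbit groups
  refine (Subgroup.closure_le _).2 ?_
  rintro g ⟨m, sg, t, ht, rfl⟩
  by_cases hm : O.ρ (O.os m) = O.os m
  · obtain ⟨w, hw⟩ := hfixed m hm sg
    have := moveF _ (hwM w).1 (hwM w).2 _ hsF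
    rw [hw] at this
    have hsz : O.sz (O.os m) = 1 := if_pos hm
    have ex : O.xS sg (O.os m) t = C.X K (sd sg (C.p (O.os m))) t := by simp [Orth.xS, Orth.oprod, hsz]
    rw [SetLike.mem_coe, ex]
    refine this t ?_
    rw [← ex, O.Θ_xS ht]
  · obtain ⟨w, j, hw⟩ := hmoved m hm sg
    have := moveM _ (hwM w).1 (hwM w).2 _ hr1M
    rw [hw] at this
    obtain ⟨u, hu⟩ := exists_rotate O hm sg j t
    rw [SetLike.mem_coe, hu]
    exact this u

end Cfsg.Agent.Lib.TwistTwoGen49
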