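import Cfsg.Agent.Lib.TwistTwoGen49.Gen

/-!
Auxiliary facts for the instances.
-/

set_option autoImplicit false

namespace Cfsg.Agent.Lib.TwistTwoGen49

open Cfsg.Lie ChevStructure Cfsg.Agent.Lib.LieTwisted.Twist

variable {D : ChevalleyDatum} {C : Core D}

theorem pprod_val' : ∀ (L : List (Fin D.rank)) (r : Rt D),
    (C.pprod L r).val = ChevTwoGen49.actW D (L.map Fin.val) r.val
  | [], r => by simp [C.pprod_nil, ChevTwoGen49.actW]
  | l :: L, r => by
    have ih := pprod_val' L r
    show _ = D.reflectRoot l.val (ChevTwoGen49.actW D (L.map Fin.val) r.val)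
    rw [← ih, C.pprod_cons]
    exact (C.w_eq l _).symm

theorem iterate_val (L : List (Fin D.rank)) (r : Rt D) : ∀ k : ℕ,
    ((C.pprod L : _ → _)^[k] r).val = (ChevTwoGen49.actW D (L.map Fin.val))^[k] r.val
  | 0 => rfl
  | k + 1 => by rw [Function.iterate_succ_apply', Function.iterate_succ_apply', pprod_val', iterate_val L r k]

variable {K : Type*} [Field K] (O : Orth C K)

theorem word_val {L0 : List (Fin O.nn)} {m1 : Fin O.nn} {Lv Jv : List ℕ}
    (hL : (L0.flatMap O.Jl).map Fin.val = Lv) (hJ : (O.Jl m1).map Fin.val = Jv) : ∀ w : List Bool,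
    (word O L0 m1 w).map Fin.val = w.flatMap fun b => if b then Lv else Jv
  | [] => rfl
  | c :: w => by
    show (((if c then L0.flatMap O.Jl else O.Jl m1) ++ word O L0 m1 w).map Fin.val) = _
    rw [List.map_append, word_val hL hJ w, List.flatMap_cons]
    cases c
    · simp only [Bool.false_eq_true, if_false, hJ]
    · simp only [if_true, hL]

/-- A power of a generator other than one. -/
theorem pow_ne_one [Fintype K] {b : Kˣ} (hb : ∀ z : Kˣ, z ∈ Subgroup.zpowers b) {e : ℕ} (h0 : 0 < e)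
    (h1 : e < Fintype.card K - 1) : b ^ e ≠ 1 := by
  intro h
  have h2 := orderOf_dvd_of_pow_eq_one h
  rw [orderOf_eq_card_of_forall_mem_zpowers hb, Nat.card_units, Nat.card_eq_fintype_card] at h2
  have := Nat.le_of_dvd h0 h2
  omega

/-- The fixed units are the powers of the norm of a generator. -/
theorem fixed_pow [Fintype K] {b z : Kˣ} (hb : ∀ z : Kˣ, z ∈ Subgroup.zpowers b) {q N : ℕ} (hq : 1 < q)
    (hN : N * (q - 1) = Fintype.card K - 1) (hz : (z : K) ^ q = z) : ∃ l : ℕ, (b ^ N) ^ l = z := by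
  haveI : Finite Kˣ := inferInstance
  obtain ⟨m, rfl⟩ := (mem_powers_iff_mem_zpowers).2 (hb z)
  have h1 : (b ^ m) ^ (q - 1) = 1 := by
    refine mul_right_cancel (b := b ^ m) (Units.ext ?_)
    rw [one_mul, ← pow_succ, Nat.sub_add_cancel hq.le, Units.val_pow_eq_pow_val]
    exact hz
  rw [← pow_mul] at h1
  have h2 := orderOf_dvd_of_pow_eq_one h1
  rw [orderOf_eq_card_of_forall_mem_zpowers hb, Nat.card_units, Nat.card_eq_fintype_card, ← hN] at h2
  obtain ⟨l, hl⟩ := Nat.dvd_of_mul_dvd_mul_right (by omega) h2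
  exact ⟨l, by rw [← pow_mul, ← hl]⟩

end Cfsg.Agent.Lib.TwistTwoGen49
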